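import Groth.Agent.Neron.K696.BddAff
import Groth.Agent.Neron.K131.Bdd
import Groth.Agent.Sga7.H132.ProjPts
import Mathlib.AlgebraicGeometry.Morphisms.ClosedImmersion

/-!
# Boundedness of an open subscheme of a projective scheme containing all rational points
-/

set_option autoImplicit false
universe u

open CategoryTheory CategoryTheory.Limits AlgebraicGeometry

namespace K696.BddProj

open K131.Bdd Groth.Agent.Sga5.ProjChart Groth.Agent.Sga7.H132.ProjPts

section affine

variable {K : Type u} [Field K] {Z : Scheme.{u}} {a : Z ⟶ Spec (CommRingCat.of K)} {n : ℕ}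
  (j : Z ⟶ CohB1.ProjSpace n K) [IsClosedImmersion j] (hj : j ≫ CohB1.ProjSpace.toSpec n K = a)

include hj in
/-- The affine pieces of a closed subscheme of projective space. -/
theorem exists_affine_piece (i : Fin (n + 1)) :
    ∃ (D : Type u) (_ : CommRing D) (_ : Algebra K D) (q : Chart n K i →+* D)
      (u : Spec (CommRingCat.of D) ⟶ Z),
      IsOpenImmersion u ∧ u ≫ a = Spec.map (CommRingCat.ofHom (algebraMap K D)) ∧
      IsPullback u (Spec.map (CommRingCat.ofHom q)) j (chart n K i) ∧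
      q.comp (chartC n K i) = algebraMap K D ∧
      Algebra.adjoin K (Set.range fun l => q (coord n K i l)) = ⊤ := by
  let P := pullback j (chart n K i)
  obtain ⟨hP, hsurj⟩ := IsClosedImmersion.isAffine_surjective_of_isAffine (pullback.snd j (chart n K i))
  let D : CommRingCat := Γ(P, ⊤)
  let v : Spec D ⟶ P := P.isoSpec.inv
  let u : Spec D ⟶ Z := v ≫ pullback.fst j (chart n K i)
  have huo : IsOpenImmersion u := inferInstance
  let κ : CommRingCat.of K ⟶ D := Spec.preimage (u ≫ a)
  let q : CommRingCat.of (Chart n K i) ⟶ D := Spec.preimage (v ≫ pullback.snd j (chart n K i))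
  have hκ : Spec.map κ = u ≫ a := Spec.map_preimage _
  have hq : Spec.map q = v ≫ pullback.snd j (chart n K i) := Spec.map_preimage _
  let : Algebra K D := κ.hom.toAlgebra
  have hpb : IsPullback u (Spec.map q) j (chart n K i) := by
    rw [hq]
    exact (IsPullback.of_hasPullback j (chart n K i)).of_iso P.isoSpec (Iso.refl _) (Iso.refl _) (Iso.refl _)
      (by simp [u, v]) (by simp [v]) (by simp) (by simp)
  have hcomp : q.hom.comp (chartC n K i) = algebraMap K D := by
    have h1 : Spec.map (CommRingCat.ofHom (chartC n K i) ≫ q) = Spec.map κ := by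
      rw [Spec.map_comp, ← chart_toSpec, ← Category.assoc, ← hpb.w, Category.assoc, hj, hκ]
    have h2 := Spec.map_injective h1
    exact congrArg CommRingCat.Hom.hom h2
  have hqs : Function.Surjective q.hom := by
    have h1 : IsClosedImmersion (Spec.map q) := by
      rw [hq]
      infer_instance
    obtain ⟨-, h2⟩ := IsClosedImmersion.isAffine_surjective_of_isAffine (Spec.map q)
    intro d
    obtain ⟨y, hy⟩ := h2 ((Scheme.ΓSpecIso D).inv d)
    refine ⟨(Scheme.ΓSpecIso _).hom y, ?_⟩
    have h3 := ConcreteCategory.congr_hom (Scheme.ΓSpecIso_naturality q) y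
    rw [CommRingCat.comp_apply, CommRingCat.comp_apply, hy] at h3
    rw [← CommRingCat.comp_apply, Iso.inv_hom_id] at h3
    exact h3.symm
  refine ⟨D, inferInstance, inferInstance, q.hom, u, huo, hκ.symm, hpb, hcomp, ?_⟩
  rw [eq_top_iff]
  intro d hd
  clear hd
  obtain ⟨z, rfl⟩ := hqs d
  obtain ⟨p, rfl⟩ := ofPoly_surjective n K i z
  induction p using MvPolynomial.induction_on with
  | C r =>
    have h1 : q.hom (ofPoly n K i (MvPolynomial.C r)) = algebraMap K D r := by
      rw [ofPoly, MvPolynomial.coe_eval₂Hom, MvPolynomial.eval₂_C, ← hcomp]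
      rfl
    rw [h1]
    exact Subalgebra.algebraMap_mem _ _
  | add a b ha hb =>
    rw [map_add, map_add]
    exact Subalgebra.add_mem _ ha hb
  | mul_X a l ha =>
    rw [map_mul, map_mul]
    refine Subalgebra.mul_mem _ ha (Algebra.subset_adjoin ⟨i.succAbove l, ?_⟩)
    rw [ofPoly, MvPolynomial.coe_eval₂Hom, MvPolynomial.eval₂_X]

end affine

variable {R K : Type u} [CommRing R] [IsDomain R] [IsDiscreteValuationRing R] [Field K] [Algebra R K]
  [IsFractionRing R K]

omit [IsDomain R] [IsDiscreteValuationRing R] [IsFractionRing R K] in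
/-- Charts indexed by a finite type. -/
theorem exists_charts_of_finite {X : Scheme.{u}} {a : X ⟶ Spec (CommRingCat.of K)} {I : Type} [Finite I]
    (D : I → Type u) [∀ i, CommRing (D i)] [∀ i, Algebra K (D i)] (v : ∀ i, Spec (CommRingCat.of (D i)) ⟶ X)
    (m : I → ℕ) (x : ∀ i, Fin (m i) → D i) (hv : ∀ i, IsOpenImmersion (v i))
    (hover : ∀ i, v i ≫ a = Spec.map (CommRingCat.ofHom (algebraMap K (D i))))
    (hadj : ∀ i, Algebra.adjoin K (Set.range (x i)) = ⊤) :
    ∃ Y : Charts a, ∀ (i : I) (δ : D i →+* K), δ.comp (algebraMap K (D i)) = RingHom.id K →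
      (∀ l, δ (x i l) ∈ Set.range (algebraMap R K)) → Y.In R (Spec.map (CommRingCat.ofHom δ) ≫ v i) := by
  obtain ⟨N, ⟨e⟩⟩ := Finite.exists_equiv_fin I
  refine ⟨⟨N, fun k => D (e.symm k), fun k => v (e.symm k), fun k => m (e.symm k), fun k => x (e.symm k),
    fun k => hv _, fun k => hover _, fun k => hadj _⟩, fun i δ hδ hint => ?_⟩
  obtain ⟨k, rfl⟩ := e.symm.surjective i
  exact ⟨k, δ, hδ, hint, rfl⟩

omit [IsDomain R] [IsDiscreteValuationRing R] [IsFractionRing R K] in
/-- The chart `D(f)` of an affine piece, with the extra coordinate `c / f`. -/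
theorem exists_loc_chart {X : Scheme.{u}} {a : X ⟶ Spec (CommRingCat.of K)} {D : Type u} [CommRing D] [Algebra K D]
    (u : Spec (CommRingCat.of D) ⟶ X) [IsOpenImmersion u]
    (hu : u ≫ a = Spec.map (CommRingCat.ofHom (algebraMap K D))) {m : ℕ} (x : Fin m → D)
    (hx : Algebra.adjoin K (Set.range x) = ⊤) (W : X.Opens) (f : D)
    (hf : ∀ p : Spec (CommRingCat.of D), f ∉ p.asIdeal → u p ∈ W) (c : K) (hc : c ≠ 0) :
    ∃ (D' : Type u) (_ : CommRing D') (_ : Algebra K D') (v : Spec (CommRingCat.of D') ⟶ W)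
      (m' : ℕ) (x' : Fin m' → D'), IsOpenImmersion v ∧
      v ≫ W.ι ≫ a = Spec.map (CommRingCat.ofHom (algebraMap K D')) ∧ Algebra.adjoin K (Set.range x') = ⊤ ∧
      ∀ δ : D →+* K, δ.comp (algebraMap K D) = RingHom.id K → (∀ l, δ (x l) ∈ Set.range (algebraMap R K)) →
        δ f ≠ 0 → c / δ f ∈ Set.range (algebraMap R K) →
        ∃ δ' : D' →+* K, δ'.comp (algebraMap K D') = RingHom.id K ∧
          (∀ l, δ' (x' l) ∈ Set.range (algebraMap R K)) ∧
          Spec.map (CommRingCat.ofHom δ') ≫ v ≫ W.ι = Spec.map (CommRingCat.ofHom δ) ≫ u := by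
  classical
  let D' := Localization.Away f
  let w : Spec (CommRingCat.of D') ⟶ Spec (CommRingCat.of D) := Spec.map (CommRingCat.ofHom (algebraMap D D'))
  have hw : IsOpenImmersion w := by
    have : IsOpenImmersion (Spec.map (CommRingCat.ofHom (algebraMap D (Localization.Away f)))) := inferInstance
    exact this
  have hr : Set.range (w ≫ u) ⊆ Set.range W.ι := by
    rintro _ ⟨p, rfl⟩
    rw [Scheme.Opens.range_ι]
    refine hf _ ?_
    have h1 : PrimeSpectrum.comap (algebraMap D D') p ∈ (PrimeSpectrum.basicOpen f : Set (PrimeSpectrum D)) := by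
      rw [← PrimeSpectrum.localization_away_comap_range D' f]
      exact ⟨p, rfl⟩
    exact h1
  let v : Spec (CommRingCat.of D') ⟶ W := IsOpenImmersion.lift W.ι (w ≫ u) hr
  have hv : v ≫ W.ι = w ≫ u := IsOpenImmersion.lift_fac _ _ _
  have hvo : IsOpenImmersion v := by
    have h1 : IsOpenImmersion (v ≫ W.ι) := by rw [hv]; infer_instance
    exact IsOpenImmersion.of_comp v W.ι
  refine ⟨D', inferInstance, inferInstance, v, m + 1,
    Fin.snoc (fun l => algebraMap D D' (x l)) (algebraMap K D' c * IsLocalization.Away.invSelf f), hvo, ?_, ?_, ?_⟩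
  · rw [← Category.assoc, hv, Category.assoc, hu, ← Spec.map_comp]
    congr 1
  · rw [eq_top_iff]
    have h1 : ∀ d : D, algebraMap D D' d ∈ Algebra.adjoin K (Set.range (Fin.snoc (α := fun _ => D')
        (fun l => algebraMap D D' (x l)) (algebraMap K D' c * IsLocalization.Away.invSelf f))) := by
      intro d
      have h2 : d ∈ Algebra.adjoin K (Set.range x) := hx ▸ Algebra.mem_top
      have h3 : (IsScalarTower.toAlgHom K D D') d ∈ (Algebra.adjoin K (Set.range x)).map (IsScalarTower.toAlgHom K D D') :=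
        ⟨d, h2, rfl⟩
      rw [AlgHom.map_adjoin] at h3
      refine Algebra.adjoin_mono ?_ h3
      rintro _ ⟨_, ⟨l, rfl⟩, rfl⟩
      exact ⟨Fin.castSucc l, by rw [Fin.snoc_castSucc]; rfl⟩
    have h2 : (IsLocalization.Away.invSelf f : D') ∈ Algebra.adjoin K (Set.range (Fin.snoc (α := fun _ => D')
        (fun l => algebraMap D D' (x l)) (algebraMap K D' c * IsLocalization.Away.invSelf f))) := by
      have h3 : algebraMap K D' c * IsLocalization.Away.invSelf f ∈ Algebra.adjoin K (Set.range (Fin.snoc (α := fun _ => D')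
        (fun l => algebraMap D D' (x l)) (algebraMap K D' c * IsLocalization.Away.invSelf f))) :=
        Algebra.subset_adjoin ⟨Fin.last m, by rw [Fin.snoc_last]⟩
      have h4 := Subalgebra.mul_mem _ (Subalgebra.algebraMap_mem _ c⁻¹) h3
      rwa [← mul_assoc, ← map_mul, inv_mul_cancel₀ hc, map_one, one_mul] at h4
    intro z _
    obtain ⟨n, d, hd⟩ := IsLocalization.Away.surj f z
    have h3 : z = algebraMap D D' d * (IsLocalization.Away.invSelf f : D') ^ n := by
      rw [← hd, mul_assoc, ← mul_pow, IsLocalization.Away.mul_invSelf, one_pow, mul_one]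
    rw [h3]
    exact Subalgebra.mul_mem _ (h1 d) (Subalgebra.pow_mem _ h2 n)
  · intro δ hδ hint hδf hcf
    let δ' : D' →+* K := IsLocalization.Away.lift f (g := δ) (isUnit_iff_ne_zero.mpr hδf)
    have hδ' : ∀ d, δ' (algebraMap D D' d) = δ d := fun d => IsLocalization.Away.lift_eq f _ d
    refine ⟨δ', ?_, ?_, ?_⟩
    · ext r
      rw [RingHom.comp_apply, IsScalarTower.algebraMap_apply K D D', hδ', ← RingHom.comp_apply, hδ]
    · intro l
      refine Fin.lastCases ?_ (fun l => ?_) l
      · rw [Fin.snoc_last, map_mul, IsScalarTower.algebraMap_apply K D D', hδ', ← RingHom.comp_apply δ, hδ,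
          RingHom.id_apply]
        have h5 : δ' (IsLocalization.Away.invSelf f) = (δ f)⁻¹ := by
          refine eq_inv_of_mul_eq_one_left ?_
          rw [mul_comm, ← hδ' f, ← map_mul, IsLocalization.Away.mul_invSelf, map_one]
        rw [h5, ← div_eq_mul_inv]
        exact hcf
      · rw [Fin.snoc_castSucc, hδ']
        exact hint l
    · rw [hv, ← Category.assoc, ← Spec.map_comp, ← CommRingCat.ofHom_comp]
      congr 3
      ext d
      exact hδ' d

/-- **Boundedness from Greenberg's theorem**: if a closed subscheme `Z` of projective space over the fraction field of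
an excellent henselian discrete valuation ring has an open `W` containing all its rational points, then the rational
points of `W` are bounded. -/
theorem bdd_of_proj [HenselianLocalRing R] (hex : EGA4.IsExcellent R) {n : ℕ} {Z : Scheme.{u}}
    (j : Z ⟶ CohB1.ProjSpace n K) [IsClosedImmersion j] (W : Z.Opens)
    (hW : ∀ c : Spec (CommRingCat.of K) ⟶ Z, c ≫ j ≫ CohB1.ProjSpace.toSpec n K = 𝟙 _ → Set.range c ⊆ (W : Set Z)) :
    K131.Bdd.Bdd R (W.ι ≫ j ≫ CohB1.ProjSpace.toSpec n K) (fun _ => True) := by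
  classical
  obtain ⟨t, ht⟩ := IsDiscreteValuationRing.exists_irreducible R
  let a : Z ⟶ Spec (CommRingCat.of K) := j ≫ CohB1.ProjSpace.toSpec n K
  have key := fun i : Fin (n + 1) => exists_affine_piece (a := a) j rfl i
  choose D hD1 hD2 q u hu1 hu2 hpb hqC hadj using key
  -- the ideal of the boundary
  let 𝔟 : ∀ i, Ideal (D i) := fun i => PrimeSpectrum.vanishingIdeal ((u i ⁻¹ᵁ W).1)ᶜ
  have h1 : ∀ (i : Fin (n + 1)) (f : D i), f ∈ 𝔟 i → ∀ p : Spec (CommRingCat.of (D i)), f ∉ p.asIdeal → u i p ∈ W := by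
    intro i f hf p hp
    by_contra hpW
    exact hp ((PrimeSpectrum.mem_vanishingIdeal _ _).mp hf p hpW)
  have h2 : ∀ (i : Fin (n + 1)) (δ : D i →ₐ[K] K), (∀ l, δ (q i (coord n K i l)) ∈ Set.range (algebraMap R K)) →
      ∃ f ∈ 𝔟 i, δ f ≠ 0 := by
    intro i δ _
    have h3 : (Spec.map (CommRingCat.ofHom δ.toRingHom) ≫ u i) ≫ a = 𝟙 _ := by
      rw [Category.assoc, hu2, ← Spec.map_comp, ← CommRingCat.ofHom_comp]
      have : δ.toRingHom.comp (algebraMap K (D i)) = RingHom.id K := by
        ext r; exact δ.commutes r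
      rw [this]
      exact Spec.map_id _
    have h4 := hW _ h3
    let y : Spec (CommRingCat.of K) := IsLocalRing.closedPoint K
    let p : Spec (CommRingCat.of (D i)) := Spec.map (CommRingCat.ofHom δ.toRingHom) y
    have h5 : p ∈ (u i ⁻¹ᵁ W : (Spec (CommRingCat.of (D i))).Opens) := h4 ⟨y, rfl⟩
    by_contra! hcon
    have h6 : 𝔟 i ≤ p.asIdeal := by
      intro f hf
      have : δ f = 0 := hcon f hf
      show δ.toRingHom f ∈ (IsLocalRing.closedPoint K).asIdeal
      rw [show δ.toRingHom f = 0 from this]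
      exact zero_mem _
    have h7 : p ∈ PrimeSpectrum.zeroLocus (𝔟 i : Set (D i)) := h6
    rw [PrimeSpectrum.zeroLocus_vanishingIdeal_eq_closure] at h7
    have h8 : IsClosed ((u i ⁻¹ᵁ W).1)ᶜ := isClosed_compl_iff.mpr (u i ⁻¹ᵁ W).2
    have h9 : p ∈ ((u i ⁻¹ᵁ W).1)ᶜ := h8.closure_subset h7
    exact h9 h5
  have h3 := fun i : Fin (n + 1) => BddAff.exists_bound hex ht (fun l => q i (coord n K i l)) (hadj i) (𝔟 i) (h2 i)
  choose s N F hF hFN using h3
  have htN : ∀ i, algebraMap R K (t ^ N i) ≠ 0 := fun i h0 =>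
    pow_ne_zero _ ht.ne_zero ((map_eq_zero_iff _ (IsFractionRing.injective R K)).mp h0)
  have h4 := fun (i : Fin (n + 1)) (k : Fin (s i)) =>
    exists_loc_chart (R := R) (a := a) (u i) (hu2 i) (fun l => q i (coord n K i l)) (hadj i) W (F i k)
      (h1 i _ (hF i k)) _ (htN i)
  choose D' hD'1 hD'2 v m' x' hv1 hv2 hx' hδ' using h4
  obtain ⟨Y, hY⟩ := exists_charts_of_finite (R := R) (a := W.ι ≫ a) (I := Σ i : Fin (n + 1), Fin (s i))
    (fun σ => D' σ.1 σ.2) (fun σ => v σ.1 σ.2) (fun σ => m' σ.1 σ.2) (fun σ => x' σ.1 σ.2)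
    (fun σ => hv1 _ _) (fun σ => hv2 _ _) (fun σ => hx' _ _)
  refine ⟨Y, fun c hc _ => ?_⟩
  obtain ⟨i, χ, hχ, hint⟩ := exists_integral_chart (R := R) ((c ≫ W.ι) ≫ j)
  let w : Spec (CommRingCat.of K) ⟶ Spec (CommRingCat.of (D i)) :=
    (hpb i).lift (c ≫ W.ι) (Spec.map (CommRingCat.ofHom χ)) hχ.symm
  have hw1 : w ≫ u i = c ≫ W.ι := IsPullback.lift_fst _ _ _ _
  have hw2 : w ≫ Spec.map (CommRingCat.ofHom (q i)) = Spec.map (CommRingCat.ofHom χ) := IsPullback.lift_snd _ _ _ _
  let δ : D i →+* K := (Spec.preimage w).hom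
  have hδ : Spec.map (CommRingCat.ofHom δ) = w := by
    rw [CommRingCat.ofHom_hom, Spec.map_preimage]
  have hδK : δ.comp (algebraMap K (D i)) = RingHom.id K := by
    have h5 : Spec.map (CommRingCat.ofHom (δ.comp (algebraMap K (D i)))) = Spec.map (𝟙 (CommRingCat.of K)) := by
      rw [CommRingCat.ofHom_comp, Spec.map_comp, hδ, ← hu2 i, ← Category.assoc, hw1, Category.assoc]
      exact hc.trans (Spec.map_id _).symm
    exact congrArg CommRingCat.Hom.hom (Spec.map_injective h5)
  have hδq : δ.comp (q i) = χ := by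
    have h5 : Spec.map (CommRingCat.ofHom (δ.comp (q i))) = Spec.map (CommRingCat.ofHom χ) := by
      rw [CommRingCat.ofHom_comp, Spec.map_comp, hδ, hw2]
    exact congrArg CommRingCat.Hom.hom (Spec.map_injective h5)
  have hint' : ∀ l, δ (q i (coord n K i l)) ∈ Set.range (algebraMap R K) := fun l => by
    rw [← RingHom.comp_apply, hδq]
    exact hint l
  let δa : D i →ₐ[K] K := { δ with commutes' := fun r => DFunLike.congr_fun hδK r }
  obtain ⟨k, hk0, hk⟩ := hFN i δa hint'
  obtain ⟨δ', hδ'1, hδ'2, hδ'3⟩ := hδ' i k δ hδK hint' hk0 hk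
  have h5 := hY ⟨i, k⟩ δ' hδ'1 hδ'2
  have h6 : Spec.map (CommRingCat.ofHom δ') ≫ v i k = c := by
    rw [← cancel_mono W.ι, Category.assoc, hδ'3, hδ, hw1]
  exact h6 ▸ h5

end K696.BddProj
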