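import Groth.Agent.Neron.K696.Greenberg

/-!
# Integral points of an affine scheme stay away from a closed subset without integral points
-/

set_option autoImplicit false
universe u

open IsLocalRing

namespace K696.BddAff

variable {R K : Type u} [CommRing R] [IsDomain R] [IsDiscreteValuationRing R] [Field K] [Algebra R K]
  [IsFractionRing R K]

omit [IsDiscreteValuationRing R] in
/-- Clearing denominators of a polynomial. -/
theorem exists_smul_eq_map {m : ℕ} (G : MvPolynomial (Fin m) K) :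
    ∃ (a : R) (G' : MvPolynomial (Fin m) R), a ≠ 0 ∧ algebraMap R K a • G = MvPolynomial.map (algebraMap R K) G' := by
  classical
  induction G using MvPolynomial.induction_on with
  | C r =>
    obtain ⟨x, y, hy⟩ := IsLocalization.exists_mk'_eq (nonZeroDivisors R) r
    refine ⟨y, MvPolynomial.C x, nonZeroDivisors.ne_zero y.2, ?_⟩
    rw [MvPolynomial.map_C, MvPolynomial.smul_eq_C_mul, ← MvPolynomial.C_mul, ← hy, mul_comm, IsLocalization.mk'_spec]
  | add p q hp hq =>
    obtain ⟨a, p', ha, hp'⟩ := hp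
    obtain ⟨b, q', hb, hq'⟩ := hq
    refine ⟨a * b, MvPolynomial.C b * p' + MvPolynomial.C a * q', mul_ne_zero ha hb, ?_⟩
    simp only [map_add, map_mul, ← hp', ← hq', MvPolynomial.map_C, MvPolynomial.smul_eq_C_mul, mul_add]
    ring
  | mul_X p l hp =>
    obtain ⟨a, p', ha, hp'⟩ := hp
    refine ⟨a, p' * MvPolynomial.X l, ha, ?_⟩
    rw [map_mul, ← hp', MvPolynomial.map_X, smul_mul_assoc]

theorem exists_factor {k A B C : Type*} [CommRing k] [CommRing A] [CommRing B] [CommRing C] [Algebra k A]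
    [Algebra k B] [Algebra k C] (π : A →ₐ[k] B) (hπ : Function.Surjective π) (ψ : A →ₐ[k] C)
    (h : ∀ a, π a = 0 → ψ a = 0) : ∃ δ : B →ₐ[k] C, ∀ a, δ (π a) = ψ a := by
  refine ⟨(Ideal.Quotient.liftₐ (RingHom.ker π) ψ h).comp
    (Ideal.quotientKerAlgEquivOfSurjective hπ).symm.toAlgHom, fun a => ?_⟩
  have h5 : (Ideal.quotientKerAlgEquivOfSurjective hπ).symm (π a) = Ideal.Quotient.mk (RingHom.ker π) a := by
    rw [AlgEquiv.symm_apply_eq]
    rfl
  show Ideal.Quotient.liftₐ (RingHom.ker π) ψ h ((Ideal.quotientKerAlgEquivOfSurjective hπ).symm (π a)) = _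
  rw [h5]
  rfl

/-- Let `D` be a `K`-algebra with generators `x_l` and `𝔟` an ideal such that no `K`-point with integral coordinates
lies on `V(𝔟)`. Then finitely many `F_k ∈ 𝔟` and some `N` are such that every such point `δ` satisfies
`δ(F_k) ≠ 0` and `t^N / δ(F_k) ∈ R` for some `k`. -/
theorem exists_bound (hex : EGA4.IsExcellent R) [HenselianLocalRing R] {t : R} (ht : Irreducible t) {D : Type u}
    [CommRing D] [Algebra K D] {m : ℕ} (x : Fin m → D) (hx : Algebra.adjoin K (Set.range x) = ⊤) (𝔟 : Ideal D)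
    (h : ∀ δ : D →ₐ[K] K, (∀ l, δ (x l) ∈ Set.range (algebraMap R K)) → ∃ f ∈ 𝔟, δ f ≠ 0) :
    ∃ (s N : ℕ) (F : Fin s → D), (∀ k, F k ∈ 𝔟) ∧
      ∀ δ : D →ₐ[K] K, (∀ l, δ (x l) ∈ Set.range (algebraMap R K)) →
        ∃ k, δ (F k) ≠ 0 ∧ (algebraMap R K (t ^ N)) / δ (F k) ∈ Set.range (algebraMap R K) := by
  classical
  let : Algebra R D := ((algebraMap K D).comp (algebraMap R K)).toAlgebra
  have : IsScalarTower R K D := IsScalarTower.of_algebraMap_eq fun _ => rfl
  let φ : MvPolynomial (Fin m) R →ₐ[R] D := MvPolynomial.aeval x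
  let 𝔠 : Ideal (MvPolynomial (Fin m) R) := 𝔟.comap φ
  let C := MvPolynomial (Fin m) R ⧸ 𝔠
  have hφK : ∀ G : MvPolynomial (Fin m) R, MvPolynomial.aeval x (MvPolynomial.map (algebraMap R K) G) = φ G := by
    intro G
    rw [MvPolynomial.aeval_map_algebraMap]
  have hsurj : Function.Surjective (MvPolynomial.aeval x : MvPolynomial (Fin m) K →ₐ[K] D) := by
    rw [← AlgHom.range_eq_top, ← Algebra.adjoin_range_eq_range_aeval, hx]
  have hno : IsEmpty (C →ₐ[R] R) := by
    refine ⟨fun ρ => ?_⟩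
    let r : Fin m → R := fun l => ρ (Ideal.Quotient.mk 𝔠 (MvPolynomial.X l))
    have hr : ∀ G : MvPolynomial (Fin m) R, ρ (Ideal.Quotient.mk 𝔠 G) = MvPolynomial.aeval r G := by
      intro G
      have : (ρ.comp (Ideal.Quotient.mkₐ R 𝔠)) = MvPolynomial.aeval r := by
        refine MvPolynomial.algHom_ext fun l => ?_
        rw [MvPolynomial.aeval_X]
        rfl
      exact DFunLike.congr_fun this G
    let ψ : MvPolynomial (Fin m) K →ₐ[K] K := MvPolynomial.aeval fun l => algebraMap R K (r l)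
    have hψ : ∀ G : MvPolynomial (Fin m) K, (MvPolynomial.aeval x : MvPolynomial (Fin m) K →ₐ[K] D) G ∈ 𝔟 → ψ G = 0 := by
      intro G hG
      obtain ⟨a, G', ha, hG'⟩ := exists_smul_eq_map (R := R) G
      have h1 : G' ∈ 𝔠 := by
        show φ G' ∈ 𝔟
        rw [← hφK, ← hG', map_smul, Algebra.smul_def]
        exact Ideal.mul_mem_left _ _ hG
      have h2 : MvPolynomial.aeval r G' = 0 := by
        rw [← hr, Ideal.Quotient.eq_zero_iff_mem.mpr h1, map_zero]
      have h3 : ψ (MvPolynomial.map (algebraMap R K) G') = 0 := by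
        have h4 : ψ (MvPolynomial.map (algebraMap R K) G') = algebraMap R K (MvPolynomial.aeval r G') := by
          show MvPolynomial.aeval (fun l => algebraMap R K (r l)) (MvPolynomial.map (algebraMap R K) G') = _
          rw [MvPolynomial.aeval_map_algebraMap]
          exact MvPolynomial.aeval_algebraMap_apply K r G'
        rw [h4, h2, map_zero]
      rw [← hG', map_smul, smul_eq_mul] at h3
      exact (mul_eq_zero.mp h3).resolve_left fun h0 =>
        ha ((map_eq_zero_iff _ (IsFractionRing.injective R K)).mp h0)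
    have hψX : ∀ l, ψ (MvPolynomial.X l) = algebraMap R K (r l) := fun l => MvPolynomial.aeval_X _ _
    obtain ⟨δ, hδ⟩ := exists_factor (MvPolynomial.aeval x : MvPolynomial (Fin m) K →ₐ[K] D) hsurj ψ
      (fun G hG => hψ G (by rw [hG]; exact zero_mem _))
    have hδX : ∀ l, δ (x l) = algebraMap R K (r l) := fun l => by
      rw [← hψX l, ← hδ, MvPolynomial.aeval_X]
    obtain ⟨f, hf, hf0⟩ := h δ (fun l => ⟨r l, (hδX l).symm⟩)
    obtain ⟨G, rfl⟩ := hsurj f
    exact hf0 ((hδ G).trans (hψ G hf))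
  obtain ⟨N, hN⟩ : ∃ N : ℕ, IsEmpty (C →ₐ[R] R ⧸ Ideal.span {t ^ N}) := by
    by_contra! hcon
    obtain ⟨τ⟩ := Greenberg.exists_point hex ht C fun m => by
      simpa using hcon m
    exact hno.false τ
  obtain ⟨S, hS⟩ : 𝔠.FG := IsNoetherian.noetherian 𝔠
  let e := S.equivFin
  refine ⟨S.card, N, fun k => φ (e.symm k : MvPolynomial (Fin m) R), fun k => ?_, ?_⟩
  · have : (e.symm k : MvPolynomial (Fin m) R) ∈ 𝔠 := hS ▸ Ideal.subset_span (e.symm k).2
    exact this
  intro δ hδ
  choose r hr using hδ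
  have hδφ : ∀ G : MvPolynomial (Fin m) R, δ (φ G) = algebraMap R K (MvPolynomial.aeval r G) := by
    intro G
    have : ((δ.restrictScalars R).comp φ) = (Algebra.ofId R K).comp (MvPolynomial.aeval r) := by
      ext l
      simp only [AlgHom.comp_apply, φ, MvPolynomial.aeval_X, AlgHom.restrictScalars_apply]
      exact (hr l).symm
    exact DFunLike.congr_fun this G
  have h1 : ∃ P ∈ S, ¬ t ^ N ∣ MvPolynomial.aeval r P := by
    by_contra! hcon
    refine hN.false (Ideal.Quotient.liftₐ 𝔠 ((Ideal.Quotient.mkₐ R (Ideal.span {t ^ N})).comp (MvPolynomial.aeval r)) ?_)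
    have h4 : 𝔠 ≤ RingHom.ker ((Ideal.Quotient.mkₐ R (Ideal.span {t ^ N})).comp
        (MvPolynomial.aeval r : MvPolynomial (Fin m) R →ₐ[R] R)) := by
      rw [← hS, Ideal.span_le]
      intro P hP
      show (Ideal.Quotient.mkₐ R (Ideal.span {t ^ N})) (MvPolynomial.aeval r P) = 0
      rw [Ideal.Quotient.mkₐ_eq_mk, Ideal.Quotient.eq_zero_iff_mem, Ideal.mem_span_singleton]
      exact hcon P hP
    exact fun a ha => h4 ha
  obtain ⟨P, hP, hPN⟩ := h1
  refine ⟨e ⟨P, hP⟩, ?_⟩
  show δ (φ (e.symm (e ⟨P, hP⟩) : MvPolynomial (Fin m) R)) ≠ 0 ∧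
    algebraMap R K (t ^ N) / δ (φ (e.symm (e ⟨P, hP⟩) : MvPolynomial (Fin m) R)) ∈ Set.range (algebraMap R K)
  rw [Equiv.symm_apply_apply, hδφ]
  have hP0 : (MvPolynomial.aeval r P : R) ≠ 0 := fun h0 => hPN (h0 ▸ dvd_zero _)
  have hP0' : algebraMap R K (MvPolynomial.aeval r P) ≠ 0 := fun h0 =>
    hP0 ((map_eq_zero_iff _ (IsFractionRing.injective R K)).mp h0)
  refine ⟨hP0', ?_⟩
  have h2 : (MvPolynomial.aeval r P : R) ∣ t ^ N := by
    obtain ⟨d, u, hu⟩ := IsDiscreteValuationRing.eq_unit_mul_pow_irreducible hP0 ht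
    have hd : d < N := by
      by_contra hd
      exact hPN (hu ▸ (pow_dvd_pow t (not_lt.mp hd)).mul_left _)
    rw [hu]
    exact (Units.mul_left_dvd).mpr (pow_dvd_pow t hd.le)
  obtain ⟨c, hc⟩ := h2
  exact ⟨c, by rw [hc, map_mul, mul_div_cancel_left₀ _ hP0']⟩

end K696.BddAff
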