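import Groth.Agent.Neron.K696.PInd
import Groth.Agent.Deform.K679.AdicCompl
import Groth.Agent.LoccohA.ChevalleyAdic
import Groth.Agent.S17703
import Groth.Agent.S0543
import Groth.Agent.Ega1.LimitSystem
import Mathlib.RingTheory.AdicCompletion.Completeness
import Mathlib.RingTheory.AdicCompletion.LocalRing
import Mathlib.RingTheory.AdicCompletion.Noetherian

/-!
# Excellent discrete valuation rings: `∑ a_i x_i^p` small forces the `x_i` small
-/

set_option autoImplicit false
universe u

open IsLocalRing TensorProduct

namespace K696.Bound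

open PInd

variable {R : Type u} [CommRing R]

theorem PI_of_geomReduced [IsDomain R] {k A : Type u} [Field k] [Algebra R k] [IsFractionRing R k] [CommRing A]
    [Algebra k A] [Algebra R A] [IsScalarTower R k A] [Algebra.IsGeometricallyReduced k A] {p : ℕ} (hp : p.Prime)
    [CharP R p] {n : ℕ} (a : Fin n → R) (ha : PI p R a) : PI p A a := by
  classical
  have : Fact p.Prime := ⟨hp⟩
  have hk : CharP k p := charP_of_injective_algebraMap (IsFractionRing.injective R k) p
  let k' := AlgebraicClosure k
  have : CharP k' p := charP_of_injective_algebraMap (algebraMap k k').injective p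
  have hinjR : Function.Injective (algebraMap R k) := IsFractionRing.injective R k
  intro x hx
  have hb : ∀ i, ∃ b : k', b ^ p = algebraMap k k' (algebraMap R k (a i)) := fun i =>
    IsAlgClosed.exists_pow_nat_eq _ hp.pos
  choose b hb using hb
  have hlin : LinearIndependent k b := by
    rw [Fintype.linearIndependent_iff]
    intro c hc
    obtain ⟨d, hd⟩ := IsLocalization.exist_integer_multiples_of_finite (nonZeroDivisors R) c
    choose r hr using hd
    have h1 : (∑ i, c i • b i) ^ p = 0 := by rw [hc, zero_pow hp.ne_zero]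
    rw [sum_pow_char] at h1
    have h2 : algebraMap k k' (∑ i, algebraMap R k (a i) * c i ^ p) = 0 := by
      rw [← h1, map_sum]
      refine Finset.sum_congr rfl fun i _ => ?_
      rw [Algebra.smul_def, mul_pow, hb, map_mul, map_pow, mul_comm]
    rw [map_eq_zero_iff _ (algebraMap k k').injective] at h2
    have hd0 : algebraMap R k (d : R) ≠ 0 := by
      rw [Ne, map_eq_zero_iff _ hinjR]; exact nonZeroDivisors.ne_zero d.2
    have h3 := ha r (hinjR (by
      simp only [Algebra.algebraMap_self, RingHom.id_apply, map_sum, map_mul, map_pow, map_zero, hr,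
        Algebra.smul_def]
      have : ∑ i, algebraMap R k (a i) * (algebraMap R k (d : R) * c i) ^ p =
          algebraMap R k (d : R) ^ p * ∑ i, algebraMap R k (a i) * c i ^ p := by
        rw [Finset.mul_sum]
        exact Finset.sum_congr rfl fun i _ => by rw [mul_pow]; ring
      rw [this, h2, mul_zero]))
    intro i
    have h4 := hr i
    rw [h3 i, map_zero, Algebra.smul_def] at h4
    exact (mul_eq_zero.mp h4.symm).resolve_left hd0
  have hred : IsReduced (k' ⊗[k] A) := inferInstance
  have hred' : IsReduced (A ⊗[k] k') := isReduced_of_injective (Algebra.TensorProduct.comm k A k')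
    (Algebra.TensorProduct.comm k A k').injective
  have h3 : LinearIndependent A (fun i => (1 : A) ⊗ₜ[k] b i) :=
    Module.Flat.linearIndependent_one_tmul hlin
  rw [Fintype.linearIndependent_iff] at h3
  refine h3 x ?_
  rcases subsingleton_or_nontrivial (A ⊗[k] k') with hs | hs
  · exact Subsingleton.elim _ _
  have : CharP (A ⊗[k] k') p :=
    charP_of_injective_algebraMap (algebraMap k (A ⊗[k] k')).injective p
  refine eq_zero_of_pow_eq_zero (n := p) ?_
  rw [sum_pow_char]
  have h5 : ∀ i, (x i • (1 : A) ⊗ₜ[k] b i) ^ p = (algebraMap R A (a i) * x i ^ p) ⊗ₜ[k] (1 : k') := by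
    intro i
    rw [TensorProduct.smul_tmul', smul_eq_mul, mul_one, Algebra.TensorProduct.tmul_pow, hb,
      Algebra.algebraMap_eq_smul_one, ← TensorProduct.smul_tmul, Algebra.smul_def,
      ← IsScalarTower.algebraMap_apply]
  simp_rw [h5]
  rw [← TensorProduct.sum_tmul, hx, TensorProduct.zero_tmul]

variable [IsDomain R] [IsDiscreteValuationRing R]

/-- `p`-independent elements of an excellent discrete valuation ring stay `p`-independent in the completion. -/
theorem PI_cpl (hex : EGA4.IsExcellent R) {p : ℕ} (hp : p.Prime) [CharP R p] {n : ℕ} (a : Fin n → R)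
    (ha : PI p R a) : PI p (AdicCompletion (maximalIdeal R) R) a := by
  have hred := (Groth.Agent.S17703.result R).mp hex
  have h1 := PI_of_geomReduced (k := (⊥ : Ideal R).ResidueField) (A := EGA4.formalFibre R (⊥ : Ideal R)) hp a ha
  intro x hx i
  have hinj : Function.Injective (Algebra.TensorProduct.includeRight :
      EGA4.Cpl R →ₐ[R] (⊥ : Ideal R).ResidueField ⊗[R] EGA4.Cpl R) :=
    Algebra.TensorProduct.includeRight_injective (IsFractionRing.injective R _)
  apply hinj
  rw [map_zero]
  refine h1 (fun i => (Algebra.TensorProduct.includeRight :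
      EGA4.Cpl R →ₐ[R] (⊥ : Ideal R).ResidueField ⊗[R] EGA4.Cpl R) (x i)) ?_ i
  have h2 := congrArg (Algebra.TensorProduct.includeRight :
      EGA4.Cpl R →ₐ[R] (⊥ : Ideal R).ResidueField ⊗[R] EGA4.Cpl R) hx
  rw [map_zero, map_sum] at h2
  rw [← h2]
  refine Finset.sum_congr rfl fun i _ => ?_
  rw [map_mul, map_pow, AlgHom.commutes]

theorem isAdicComplete_cpl : IsAdicComplete (maximalIdeal (AdicCompletion (maximalIdeal R) R))
    (AdicCompletion (maximalIdeal R) R) := by
  rw [AdicCompletion.maximalIdeal_eq_map, IsAdicComplete.map_algebraMap_iff]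
  exact AdicCompletion.isAdicComplete (maximalIdeal R).fg_of_isNoetherianRing

/-- **Bound.** Over an excellent discrete valuation ring of characteristic `p`, if `a_1, …, a_n` are
`p`-independent then `∑ a_i x_i^p` divisible by a high power of `t` forces `t ∣ x_i`. -/
theorem exists_bound (hex : EGA4.IsExcellent R) {t : R} (ht : Irreducible t) {p : ℕ} (hp : p.Prime) [CharP R p]
    {n : ℕ} (a : Fin n → R) (ha : PI p R a) :
    ∃ c : ℕ, ∀ x : Fin n → R, t ^ c ∣ ∑ i, a i * x i ^ p → ∀ i, t ∣ x i := by
  have : Fact p.Prime := ⟨hp⟩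
  let A := AdicCompletion (maximalIdeal R) R
  have hA := PI_cpl hex hp a ha
  have hcomp : IsAdicComplete (maximalIdeal A) A := isAdicComplete_cpl
  have hnoeth : IsNoetherianRing A := Groth.Agent.S0543.result R _
  have hchar : CharP A p := by
    refine charP_of_injective_algebraMap (R := R) (A := A) ?_ p
    rw [injective_iff_map_eq_zero]
    intro r hr
    have h1 : ∀ n : ℕ, r ∈ maximalIdeal R ^ n := fun n =>
      K679.AdicCompl.mem_pow_of_algebraMap_mem R n r (by rw [hr]; exact zero_mem _)
    have h2 : r ∈ ⨅ n : ℕ, maximalIdeal R ^ n := by simpa using h1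
    rwa [Ideal.iInf_pow_eq_bot_of_isLocalRing _ (maximalIdeal.isMaximal R).ne_top] at h2
  let S : ℕ → Submodule A (Fin n → A) := fun c =>
    { carrier := {x | ∑ i, algebraMap R A (a i) * x i ^ p ∈ maximalIdeal A ^ c}
      add_mem' := by
        intro x y hx hy
        have : ∑ i, algebraMap R A (a i) * (x + y) i ^ p =
            ∑ i, algebraMap R A (a i) * x i ^ p + ∑ i, algebraMap R A (a i) * y i ^ p := by
          rw [← Finset.sum_add_distrib]
          exact Finset.sum_congr rfl fun i _ => by rw [Pi.add_apply, add_pow_char, mul_add]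
        rw [Set.mem_ofPred_eq, this]
        exact add_mem hx hy
      zero_mem' := by
        show _ ∈ _
        simp [zero_pow hp.ne_zero]
      smul_mem' := by
        intro r x hx
        have : ∑ i, algebraMap R A (a i) * (r • x) i ^ p =
            r ^ p * ∑ i, algebraMap R A (a i) * x i ^ p := by
          rw [Finset.mul_sum]
          exact Finset.sum_congr rfl fun i _ => by rw [Pi.smul_apply, smul_eq_mul, mul_pow]; ring
        rw [Set.mem_ofPred_eq, this]
        exact Ideal.mul_mem_left _ _ hx }
  have hS : Antitone S := fun c d hcd x hx => Ideal.pow_le_pow_right hcd hx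
  have hbot : ⨅ c, S c = ⊥ := by
    rw [eq_bot_iff]
    intro x hx
    rw [Submodule.mem_iInf] at hx
    have h1 : ∑ i, algebraMap R A (a i) * x i ^ p ∈ ⨅ n : ℕ, maximalIdeal A ^ n :=
      (Submodule.mem_iInf _).mpr hx
    rw [Ideal.iInf_pow_eq_bot_of_isLocalRing _ (maximalIdeal.isMaximal A).ne_top] at h1
    exact funext (hA x h1)
  have hpre : IsPrecomplete (maximalIdeal A) (Fin n → A) := Groth.Agent.Ega1.LimitSystem.isPrecomplete_of_finite
  obtain ⟨c, hc⟩ := Groth.Agent.LoccohA.ChevalleyAdic.chevalley_local_module S hS hbot 1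
  refine ⟨c, fun x hx i => ?_⟩
  have h1 : (fun i => algebraMap R A (x i)) ∈ S c := by
    obtain ⟨y, hy⟩ := hx
    have h2 : ∑ i, algebraMap R A (a i) * algebraMap R A (x i) ^ p = algebraMap R A t ^ c * algebraMap R A y := by
      rw [← map_pow, ← map_mul, ← hy, map_sum]
      exact Finset.sum_congr rfl fun i _ => by rw [map_mul, map_pow]
    change ∑ i, algebraMap R A (a i) * algebraMap R A (x i) ^ p ∈ maximalIdeal A ^ c
    rw [h2]
    refine Ideal.mul_mem_right _ _ (Ideal.pow_mem_pow ?_ _)
    rw [AdicCompletion.maximalIdeal_eq_map]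
    refine Ideal.mem_map_of_mem _ ?_
    rw [ht.maximalIdeal_eq]; exact Ideal.mem_span_singleton_self t
  have h2 := hc h1
  rw [pow_one] at h2
  have h3 : algebraMap R A (x i) ∈ maximalIdeal A := by
    have h4 : ∀ z ∈ (maximalIdeal A • (⊤ : Submodule A (Fin n → A))), z i ∈ maximalIdeal A := by
      intro z hz
      refine Submodule.smul_induction_on hz (fun r hr m _ => ?_) (fun x y hx hy => ?_)
      · rw [Pi.smul_apply, smul_eq_mul]; exact Ideal.mul_mem_right _ _ hr
      · rw [Pi.add_apply]; exact add_mem hx hy
    exact h4 _ h2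
  have h4 : x i ∈ maximalIdeal R ^ 1 := K679.AdicCompl.mem_pow_of_algebraMap_mem R 1 _ (by rwa [pow_one])
  rwa [pow_one, ht.maximalIdeal_eq, Ideal.mem_span_singleton] at h4

end K696.Bound
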