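import Groth.Agent.Neron.K696.Los
import Groth.Agent.Neron.K696.Bound
import Groth.Agent.S6830
import Groth.Agent.Hensel.SmoothLift
import Groth.Agent.Pi1A.LefExt

/-!
# Greenberg's approximation theorem over an excellent henselian discrete valuation ring
-/

set_option autoImplicit false
universe u

open Filter IsLocalRing

namespace K696.Greenberg

open Ultra

variable {R : Type u} [CommRing R]

/-- A family of points modulo `t^(e m)`, `e m → ∞`, gives a point in the separated ultrapower. -/
theorem exists_toU1 (t : R) {B : Type u} [CommRing B] [Algebra R B] (e : ℕ → ℕ) (he : ∀ m, m ≤ e m)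
    (σ : ∀ m : ℕ, B →ₐ[R] R ⧸ Ideal.span {t ^ e m}) :
    ∃ (s : ℕ → B → R) (Φ : B →ₐ[R] U1 t), (∀ m b, Ideal.Quotient.mk _ (s m b) = σ m b) ∧
      ∀ b, Φ b = mk t (fun m => s m b) := by
  choose s hs using fun (m : ℕ) (b : B) => Ideal.Quotient.mk_surjective (σ m b)
  have key : ∀ (x y : ℕ → R), (∀ m, (Ideal.Quotient.mk (Ideal.span {t ^ e m})) (x m) =
      Ideal.Quotient.mk (Ideal.span {t ^ e m}) (y m)) → mk t x = mk t y := by
    intro x y hxy
    rw [mk_eq_mk]
    intro m
    filter_upwards [Nat.hyperfilter_le_atTop (eventually_ge_atTop m)] with j hj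
    have h1 := Ideal.Quotient.eq.mp (hxy j)
    rw [Ideal.mem_span_singleton] at h1
    exact (pow_dvd_pow t (hj.trans (he j))).trans h1
  refine ⟨s, AlgHom.ofLinearMap
    { toFun := fun b => mk t (fun m => s m b)
      map_add' := fun b b' => by
        rw [← map_add]
        exact key _ _ fun m => by rw [Pi.add_apply, map_add, hs, hs, hs, map_add]
      map_smul' := fun r b => by
        show mk t (fun m => s m (r • b)) = r • mk t (fun m => s m b)
        rw [Algebra.smul_def r (mk t _), algebraMap_eq, ← map_mul]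
        exact key _ _ fun m => by
          rw [Pi.mul_apply, map_mul, hs, hs, map_smul, Algebra.smul_def]; rfl } ?_ ?_, hs, fun b => rfl⟩
  · show mk t (fun m => s m 1) = 1
    rw [← map_one (mk t)]
    exact key _ _ fun m => by rw [hs, map_one, Pi.one_apply, map_one]
  · intro b b'
    show mk t (fun m => s m (b * b')) = mk t (fun m => s m b) * mk t (fun m => s m b')
    rw [← map_mul]
    exact key _ _ fun m => by rw [Pi.mul_apply, map_mul, hs, hs, hs, map_mul]

variable [IsDomain R] [IsDiscreteValuationRing R]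

/-- The separated ultrapower of an excellent discrete valuation ring is ind-smooth over it. -/
theorem indSmooth (hex : EGA4.IsExcellent R) {t : R} (ht : Irreducible t) : Smoothing.IndSmooth R (U1 t) := by
  obtain ⟨_, _⟩ := isDVR ht
  have := Los.isLocalHom ht
  have hinj := algebraMap_injective ht
  have : FaithfulSMul R (U1 t) := (faithfulSMul_iff_algebraMap_injective R (U1 t)).mpr hinj
  have : NoZeroSMulDivisors R (U1 t) := by
    constructor
    intro c x h
    rw [Algebra.smul_def, mul_eq_zero, map_eq_zero_iff _ hinj] at h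
    exact h
  have := Los.isGeometricallyReduced_residue ht
  let L := FractionRing (U1 t)
  have hinjL : Function.Injective (algebraMap R L) := by
    rw [IsScalarTower.algebraMap_eq R (U1 t) L]
    exact (IsFractionRing.injective (U1 t) L).comp hinj
  have : FaithfulSMul R L := (faithfulSMul_iff_algebraMap_injective R L).mpr hinjL
  let _ : Algebra (FractionRing R) L := FractionRing.liftAlgebra R L
  have : IsScalarTower R (FractionRing R) L := FractionRing.isScalarTower_liftAlgebra R L
  have : Algebra.IsGeometricallyReduced (FractionRing R) L :=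
    Los.isGeometricallyReduced_frac ht fun p hp _ n a ha => Bound.exists_bound hex ht hp a ha
  exact Groth.Agent.S6830.result (K := FractionRing R) (L := L) (Los.map_maximalIdeal ht)

/-- **Greenberg's theorem**, sequence form. -/
theorem exists_near (hex : EGA4.IsExcellent R) [HenselianLocalRing R] {t : R} (ht : Irreducible t) {B : Type u}
    [CommRing B] [Algebra R B] [Algebra.FiniteType R B] (e : ℕ → ℕ) (he : ∀ m, m ≤ e m) (r : ℕ)
    (hr : ∀ m, r ≤ e m) (σ : ∀ m : ℕ, B →ₐ[R] R ⧸ Ideal.span {t ^ e m}) :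
    ∃ (m : ℕ) (τ : B →ₐ[R] R), ∀ (b : B) (x : R), Ideal.Quotient.mk _ x = σ m b → t ^ r ∣ τ b - x := by
  classical
  obtain ⟨s, Φ, hs, hΦ⟩ := exists_toU1 t e he σ
  have hB : Algebra.FinitePresentation R B := Algebra.FinitePresentation.of_finiteType.mp inferInstance
  obtain ⟨C, _, _, hC, g, h, hgh⟩ := indSmooth hex ht B hB Φ
  have : Algebra.FinitePresentation R C := hC.finitePresentation
  obtain ⟨n, f, hf, hfg⟩ := Algebra.FinitePresentation.out (R := R) (A := C)
  choose y hy using fun i : Fin n => mk_surjective t (h (f (MvPolynomial.X i)))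
  let ev : ∀ _ : ℕ, MvPolynomial (Fin n) R →ₐ[R] R := fun j => MvPolynomial.aeval fun i => y i j
  have key : ∀ P : MvPolynomial (Fin n) R, mk t (fun j => ev j P) = h (f P) := by
    have : (mk t).comp (AlgHom.pi (fun j : ℕ => ev j)) = h.comp f := by
      ext i
      rw [AlgHom.comp_apply, AlgHom.comp_apply, ← hy i]
      congr 1
      funext j
      simp [ev]
    intro P
    exact DFunLike.congr_fun this P
  obtain ⟨S, hS⟩ := hfg
  have h1 : ∀ᶠ j in (hyperfilter ℕ : Filter ℕ), ∀ P ∈ S, t ^ (r + 1) ∣ ev j P := by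
    rw [Filter.eventually_all_finset]
    intro P hP
    have h2 : f P = 0 := by
      have : P ∈ RingHom.ker f.toRingHom := hS ▸ Ideal.subset_span hP
      exact this
    have h3 := key P
    rw [h2, map_zero, mk_eq_zero] at h3
    exact h3 (r + 1)
  obtain ⟨G, hG⟩ := (inferInstance : Algebra.FiniteType R B).out
  choose P hP using fun b : B => hf (g b)
  have h2 : ∀ᶠ j in (hyperfilter ℕ : Filter ℕ), ∀ b ∈ G, t ^ (r + 1) ∣ ev j (P b) - s j b := by
    rw [Filter.eventually_all_finset]
    intro b hb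
    have h3 : mk t (fun j => ev j (P b)) = mk t (fun j => s j b) := by
      rw [key, hP, ← hΦ b, ← hgh]; rfl
    exact mk_eq_mk.mp h3 (r + 1)
  obtain ⟨j, hj1, hj2⟩ := (h1.and h2).exists
  -- the point of `C` modulo `t^(r+1)`
  let I : Ideal R := Ideal.span {t ^ (r + 1)}
  have hS' : Ideal.span (S : Set (MvPolynomial (Fin n) R)) = RingHom.ker f := hS
  have hker : ∀ P ∈ RingHom.ker f, ((Ideal.Quotient.mkₐ R I).comp (ev j)) P = 0 := by
    intro P hP
    rw [← hS'] at hP
    have h4 : Ideal.span (S : Set (MvPolynomial (Fin n) R)) ≤ RingHom.ker ((Ideal.Quotient.mkₐ R I).comp (ev j)) := by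
      rw [Ideal.span_le]
      intro P hP
      show (Ideal.Quotient.mkₐ R I) (ev j P) = 0
      rw [Ideal.Quotient.mkₐ_eq_mk, Ideal.Quotient.eq_zero_iff_mem, Ideal.mem_span_singleton]
      exact hj1 P hP
    exact h4 hP
  let σC : C →ₐ[R] R ⧸ I := (Ideal.Quotient.liftₐ (RingHom.ker f) ((Ideal.Quotient.mkₐ R I).comp (ev j)) hker).comp
    (Ideal.quotientKerAlgEquivOfSurjective hf).symm.toAlgHom
  have hσC : ∀ P, σC (f P) = Ideal.Quotient.mk I (ev j P) := by
    intro P
    have h5 : (Ideal.quotientKerAlgEquivOfSurjective hf).symm (f P) = Ideal.Quotient.mk (RingHom.ker f) P := by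
      rw [AlgEquiv.symm_apply_eq]
      rfl
    show Ideal.Quotient.liftₐ (RingHom.ker f) ((Ideal.Quotient.mkₐ R I).comp (ev j)) hker
      ((Ideal.quotientKerAlgEquivOfSurjective hf).symm (f P)) = _
    rw [h5]
    rfl
  have hI : I ≤ maximalIdeal R := by
    rw [Ideal.span_singleton_le_iff_mem, ht.maximalIdeal_eq, Ideal.mem_span_singleton]
    exact dvd_pow_self t (Nat.succ_ne_zero r)
  have := Groth.Agent.Pi1A.LefExt.henselianRing_of_le I hI
  obtain ⟨τC, hτC⟩ := Groth.Agent.Hensel.SmoothLift.exists_lift (I := I) σC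
  refine ⟨j, τC.comp g, ?_⟩
  -- compare the two points of `B` modulo `t^r`
  have hle : Ideal.span {t ^ e j} ≤ Ideal.span {t ^ r} := by
    rw [Ideal.span_singleton_le_span_singleton]; exact pow_dvd_pow t (hr j)
  have hle' : I ≤ Ideal.span {t ^ r} := by
    rw [Ideal.span_singleton_le_span_singleton]; exact pow_dvd_pow t (Nat.le_succ r)
  have h6 : (Ideal.Quotient.mkₐ R (Ideal.span {t ^ r})).comp (τC.comp g) =
      (Ideal.Quotient.factorₐ R hle).comp (σ j) := by
    refine AlgHom.ext_of_adjoin_eq_top hG fun b hb => ?_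
    have h7 : Ideal.Quotient.mk I (τC (g b)) = Ideal.Quotient.mk I (ev j (P b)) := by
      rw [← hσC, hP, ← hτC]; rfl
    have h8 : τC (g b) - s j b ∈ I := by
      have h9 := Ideal.Quotient.eq.mp h7
      have h10 : ev j (P b) - s j b ∈ I := Ideal.mem_span_singleton.mpr (hj2 b hb)
      have := add_mem h9 h10
      rwa [sub_add_sub_cancel] at this
    have h11 : σ j b = Ideal.Quotient.mk _ (s j b) := (hs j b).symm
    have h12 : ((Ideal.Quotient.factorₐ R hle).comp (σ j)) b =
        Ideal.Quotient.factorₐ R hle (Ideal.Quotient.mk _ (s j b)) := by rw [← h11]; rfl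
    rw [h12]
    show Ideal.Quotient.mk (Ideal.span {t ^ r}) (τC (g b)) = Ideal.Quotient.mk (Ideal.span {t ^ r}) (s j b)
    exact Ideal.Quotient.eq.mpr (hle' h8)
  intro b x hx
  have h7 := DFunLike.congr_fun h6 b
  have h12 : ((Ideal.Quotient.factorₐ R hle).comp (σ j)) b =
      Ideal.Quotient.factorₐ R hle (Ideal.Quotient.mk _ x) := by rw [hx]; rfl
  rw [h12] at h7
  have h8 : Ideal.Quotient.mk (Ideal.span {t ^ r}) (τC (g b)) = Ideal.Quotient.mk (Ideal.span {t ^ r}) x := h7
  exact Ideal.mem_span_singleton.mp (Ideal.Quotient.eq.mp h8)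

/-- **Greenberg's theorem**: for every `r` there is `N ≥ r` such that every point modulo `t^N` agrees modulo `t^r` with
an `R`-point. -/
theorem exists_uniform (hex : EGA4.IsExcellent R) [HenselianLocalRing R] {t : R} (ht : Irreducible t) (B : Type u)
    [CommRing B] [Algebra R B] [Algebra.FiniteType R B] (r : ℕ) :
    ∃ N : ℕ, r ≤ N ∧ ∀ σ : B →ₐ[R] R ⧸ Ideal.span {t ^ N}, ∃ τ : B →ₐ[R] R,
      ∀ (b : B) (x : R), Ideal.Quotient.mk _ x = σ b → t ^ r ∣ τ b - x := by
  by_contra! hcon
  have h1 : ∀ m : ℕ, ∃ σ : B →ₐ[R] R ⧸ Ideal.span {t ^ (m + r)}, ∀ τ : B →ₐ[R] R,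
      ∃ (b : B) (x : R), Ideal.Quotient.mk _ x = σ b ∧ ¬ t ^ r ∣ τ b - x := fun m =>
    hcon (m + r) (Nat.le_add_left r m)
  choose σ hσ using h1
  obtain ⟨m, τ, hτ⟩ := exists_near hex ht (fun m => m + r) (fun m => Nat.le_add_right m r) r
    (fun m => Nat.le_add_left r m) σ
  obtain ⟨b, x, hx, hn⟩ := hσ m τ
  exact hn (hτ b x hx)

/-- A finite type algebra with points modulo all powers of `t` has a point. -/
theorem exists_point (hex : EGA4.IsExcellent R) [HenselianLocalRing R] {t : R} (ht : Irreducible t) (B : Type u)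
    [CommRing B] [Algebra R B] [Algebra.FiniteType R B]
    (h : ∀ m : ℕ, Nonempty (B →ₐ[R] R ⧸ Ideal.span {t ^ m})) : Nonempty (B →ₐ[R] R) := by
  obtain ⟨N, -, hN⟩ := exists_uniform hex ht B 0
  obtain ⟨σ⟩ := h N
  obtain ⟨τ, -⟩ := hN σ
  exact ⟨τ⟩

end K696.Greenberg
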