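import Groth.Agent.CalgC.SepField
import Mathlib.LinearAlgebra.Basis.VectorSpace
import Mathlib.LinearAlgebra.Dimension.Free

/-!
# MacLane's condition in the form: `p`-independent elements of `k` stay `p`-independent in `K`
-/

set_option autoImplicit false
universe u v

namespace K696.PInd

/-- `∑ a_i x_i^p = 0` in `K` only for `x = 0`. -/
def PI (p : ℕ) {k : Type u} (K : Type v) [CommRing k] [CommRing K] [Algebra k K] {n : ℕ} (a : Fin n → k) : Prop :=
  ∀ x : Fin n → K, ∑ i, algebraMap k K (a i) * x i ^ p = 0 → ∀ i, x i = 0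

theorem isGeometricallyReduced {k : Type u} {K : Type v} [Field k] [Field K] [Algebra k K] {p : ℕ}
    (hp : p.Prime) [CharP k p] (h : ∀ (n : ℕ) (a : Fin n → k), PI p k a → PI p K a) :
    Algebra.IsGeometricallyReduced k K := by
  have : Fact p.Prime := ⟨hp⟩
  have : CharP K p := charP_of_injective_algebraMap (algebraMap k K).injective p
  refine (Groth.Agent.CalgC.SepField.powIndep_of_linearIndependent fun n x hx => ?_).isGeometricallyReduced hp
  rw [Fintype.linearIndependent_iff]
  intro b hb
  let F := (frobenius k p).fieldRange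
  let V : Submodule F k := Submodule.span F (Set.range b)
  have hV : Module.Finite F V := Module.Finite.span_of_finite F (Set.finite_range b)
  let e := Module.finBasis F V
  let a : Fin (Module.finrank F V) → k := fun j => (e j : k)
  have ha : PI p k a := by
    intro c hc
    have h1 : LinearIndependent F a := e.linearIndependent.map' V.subtype V.ker_subtype
    rw [Fintype.linearIndependent_iff] at h1
    have h2 := h1 (fun j => ⟨c j ^ p, ⟨c j, rfl⟩⟩) (by
      rw [← hc]
      refine Finset.sum_congr rfl fun j _ => ?_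
      rw [Subfield.smul_def, smul_eq_mul, Algebra.algebraMap_self, RingHom.id_apply, mul_comm])
    intro j
    have h3 := congrArg Subtype.val (h2 j)
    exact pow_eq_zero_iff hp.ne_zero |>.mp h3
  have hb' : ∀ i, b i ∈ V := fun i => Submodule.subset_span ⟨i, rfl⟩
  have hc : ∀ i j, ∃ c : k, c ^ p = ((e.repr ⟨b i, hb' i⟩ j : F) : k) := fun i j =>
    (e.repr ⟨b i, hb' i⟩ j).2
  choose c hc using hc
  have hbc : ∀ i, b i = ∑ j, a j * c i j ^ p := by
    intro i
    have h1 := congrArg (fun z : V => (z : k)) (e.sum_repr ⟨b i, hb' i⟩)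
    simp only [AddSubmonoidClass.coe_finset_sum, Submodule.coe_smul] at h1
    rw [← h1]
    refine Finset.sum_congr rfl fun j _ => ?_
    rw [Subfield.smul_def, smul_eq_mul, hc, mul_comm]
  have h1 : ∀ j, ∑ i, algebraMap k K (c i j) * x i = 0 := by
    refine h _ a ha (fun j => ∑ i, algebraMap k K (c i j) * x i) ?_
    rw [← hb]
    simp only [sum_pow_char, Finset.mul_sum]
    rw [Finset.sum_comm]
    refine Finset.sum_congr rfl fun i _ => ?_
    rw [Algebra.smul_def, hbc i, map_sum, Finset.sum_mul]
    refine Finset.sum_congr rfl fun j _ => ?_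
    rw [map_mul, map_pow]; ring
  rw [Fintype.linearIndependent_iff] at hx
  intro i
  have h2 : ∀ j, c i j = 0 := fun j => hx (fun i => c i j) (by
    rw [← h1 j]
    exact Finset.sum_congr rfl fun i _ => Algebra.smul_def _ _) i
  rw [hbc i]
  exact Finset.sum_eq_zero fun j _ => by rw [h2 j, zero_pow hp.ne_zero, mul_zero]

end K696.PInd
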