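import Groth.Agent.Neron.K696.Ultra
import Groth.Agent.Neron.K696.PInd
import Mathlib.RingTheory.LocalRing.ResidueField.Basic
import Mathlib.RingTheory.Localization.FractionRing

/-!
# The separated ultrapower is separable over an "analytically unramified" discrete valuation ring
-/

set_option autoImplicit false
universe u v

open Filter IsLocalRing

namespace K696.Los

open Ultra PInd

variable {R : Type u} [CommRing R]

/-- Łoś for the forms `∑ a_i x_i^p`. -/
theorem los {t : R} {p n c : ℕ} (a : Fin n → R)
    (h : ∀ x : Fin n → R, t ^ c ∣ ∑ i, a i * x i ^ p → ∀ i, t ∣ x i) (x : Fin n → U1 t)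
    (hx : algebraMap R (U1 t) t ^ c ∣ ∑ i, algebraMap R (U1 t) (a i) * x i ^ p) :
    ∀ i, algebraMap R (U1 t) t ∣ x i := by
  choose y hy using fun i => mk_surjective t (x i)
  have h1 : ∑ i, algebraMap R (U1 t) (a i) * x i ^ p = mk t (fun j => ∑ i, a i * y i j ^ p) := by
    have : (fun j => ∑ i, a i * y i j ^ p) = ∑ i, (fun _ => a i : ℕ → R) * y i ^ p := by
      funext j; simp
    rw [this, map_sum]
    refine Finset.sum_congr rfl fun i _ => ?_
    rw [map_mul, map_pow, hy, algebraMap_eq]
  rw [h1, pow_dvd_mk] at hx
  intro i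
  rw [← hy i, dvd_mk]
  filter_upwards [hx] with j hj
  exact h _ hj i

/-- If `∑ a_i x_i^p` small forces all `x_i` small then the `a_i` stay `p`-independent in `U1 t`. -/
theorem PI_of_bdd [IsDomain R] [IsDiscreteValuationRing R] {t : R} (ht : Irreducible t) {p n c : ℕ} (a : Fin n → R)
    (h : ∀ x : Fin n → R, t ^ c ∣ ∑ i, a i * x i ^ p → ∀ i, t ∣ x i) : PI p (U1 t) a := by
  obtain ⟨_, _⟩ := isDVR ht
  intro x hx
  have key : ∀ m : ℕ, ∀ i, algebraMap R (U1 t) t ^ m ∣ x i := by
    intro m
    induction m with
    | zero => intro i; simp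
    | succ m ih =>
      choose y hy using ih
      have h1 : algebraMap R (U1 t) t ^ (m * p) * ∑ i, algebraMap R (U1 t) (a i) * y i ^ p = 0 := by
        rw [← hx, Finset.mul_sum]
        refine Finset.sum_congr rfl fun i _ => ?_
        rw [hy i, mul_pow, ← pow_mul]; ring
      have h2 : ∑ i, algebraMap R (U1 t) (a i) * y i ^ p = 0 :=
        (mul_eq_zero.mp h1).resolve_left (mk_pow_ne_zero ht _)
      have h3 := los a h y (by rw [h2]; exact dvd_zero _)
      intro i
      rw [hy i, pow_succ]
      exact mul_dvd_mul_left _ (h3 i)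
  exact fun i => eq_zero_of_forall_dvd fun m => key m i

section

variable [IsDomain R] [IsDiscreteValuationRing R] {t : R} (ht : Irreducible t)

include ht in
theorem isLocalRing : IsLocalRing (U1 t) := by
  obtain ⟨_, _⟩ := isDVR ht
  infer_instance

include ht in
theorem maximalIdeal_eq [IsLocalRing (U1 t)] : maximalIdeal (U1 t) = Ideal.span {algebraMap R (U1 t) t} := by
  obtain ⟨_, h⟩ := isDVR ht
  exact Irreducible.maximalIdeal_eq (irreducible_t ht)

include ht in
theorem map_maximalIdeal [IsLocalRing (U1 t)] :
    (maximalIdeal R).map (algebraMap R (U1 t)) = maximalIdeal (U1 t) := by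
  rw [maximalIdeal_eq ht, ht.maximalIdeal_eq, Ideal.map_span, Set.image_singleton]

include ht in
theorem isLocalHom [IsLocalRing (U1 t)] : IsLocalHom (algebraMap R (U1 t)) :=
  ((local_hom_TFAE (algebraMap R (U1 t))).out 0 2 rfl rfl).mpr (map_maximalIdeal ht).le

include ht in
/-- The residue field extension is separable. -/
theorem isGeometricallyReduced_residue [IsLocalRing (U1 t)] [IsLocalHom (algebraMap R (U1 t))] :
    Algebra.IsGeometricallyReduced (ResidueField R) (ResidueField (U1 t)) := by
  obtain ⟨p, hp⟩ := CharP.exists (ResidueField R)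
  rcases CharP.char_is_prime_or_zero (ResidueField R) p with hp' | rfl
  · refine isGeometricallyReduced hp' fun n a ha x hx => ?_
    choose α hα using fun i => residue_surjective (a i)
    choose ξ hξ using fun i => residue_surjective (x i)
    have h1 : ∀ y : Fin n → R, t ^ 1 ∣ ∑ i, α i * y i ^ p → ∀ i, t ∣ y i := by
      intro y hy i
      rw [pow_one, ← Ideal.mem_span_singleton, ← ht.maximalIdeal_eq, ← residue_eq_zero_iff] at hy
      rw [← Ideal.mem_span_singleton, ← ht.maximalIdeal_eq, ← residue_eq_zero_iff]
      refine ha (fun i => residue R (y i)) ?_ i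
      rw [← hy, map_sum]
      refine Finset.sum_congr rfl fun i _ => ?_
      rw [map_mul, map_pow, hα, Algebra.algebraMap_self, RingHom.id_apply]
    have h2 := los α h1 ξ (by
      rw [pow_one, ← Ideal.mem_span_singleton, ← maximalIdeal_eq ht, ← residue_eq_zero_iff, ← hx, map_sum]
      refine Finset.sum_congr rfl fun i _ => ?_
      rw [map_mul, map_pow, hξ, ← hα]
      rfl)
    intro i
    rw [← hξ i, residue_eq_zero_iff, maximalIdeal_eq ht, Ideal.mem_span_singleton]
    exact h2 i
  · have := CharP.charP_to_charZero (ResidueField R)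
    exact Groth.Agent.CalgC.SepField.isGeometricallyReduced_of_perfectField _ _

include ht in
/-- The fraction field extension is separable. -/
theorem isGeometricallyReduced_frac [IsDomain (U1 t)] {K L : Type u} [Field K] [Algebra R K] [IsFractionRing R K]
    [Field L] [Algebra (U1 t) L] [IsFractionRing (U1 t) L] [Algebra K L] [Algebra R L] [IsScalarTower R K L]
    [IsScalarTower R (U1 t) L]
    (h : ∀ p : ℕ, p.Prime → CharP R p → ∀ (n : ℕ) (a : Fin n → R), PI p R a →
      ∃ c : ℕ, ∀ x : Fin n → R, t ^ c ∣ ∑ i, a i * x i ^ p → ∀ i, t ∣ x i) :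
    Algebra.IsGeometricallyReduced K L := by
  obtain ⟨p, hp⟩ := CharP.exists K
  rcases CharP.char_is_prime_or_zero K p with hp' | rfl
  · refine isGeometricallyReduced hp' fun n a ha x hx => ?_
    have hR : CharP R p := (algebraMap R K).charP (IsFractionRing.injective R K) p
    obtain ⟨d, hd⟩ := IsLocalization.exist_integer_multiples_of_finite (nonZeroDivisors R) a
    choose α hα using hd
    have hd0 : (d : R) ≠ 0 := nonZeroDivisors.ne_zero d.2
    have hα' : PI p R α := by
      intro y hy i
      have h1 := ha (fun i => algebraMap R K (y i)) (by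
        have h2 := congrArg (algebraMap R K) hy
        simp only [Algebra.algebraMap_self, RingHom.id_apply, map_sum, map_mul, map_pow, map_zero, hα,
          Algebra.smul_def] at h2 ⊢
        have h3 : algebraMap R K d * ∑ i, a i * algebraMap R K (y i) ^ p = 0 := by
          rw [← h2, Finset.mul_sum]
          exact Finset.sum_congr rfl fun i _ => by ring
        exact (mul_eq_zero.mp h3).resolve_left
          fun h0 => hd0 ((map_eq_zero_iff _ (IsFractionRing.injective R K)).mp h0)) i
      exact (map_eq_zero_iff _ (IsFractionRing.injective R K)).mp h1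
    obtain ⟨c, hc⟩ := h p hp' hR n α hα'
    have hU := PI_of_bdd ht α hc
    obtain ⟨e, he⟩ := IsLocalization.exist_integer_multiples_of_finite (nonZeroDivisors (U1 t)) x
    choose ξ hξ using he
    have he0 : algebraMap (U1 t) L (e : U1 t) ≠ 0 := fun h0 =>
      nonZeroDivisors.ne_zero e.2 ((map_eq_zero_iff _ (IsFractionRing.injective (U1 t) L)).mp h0)
    have h4 := hU ξ (by
      apply IsFractionRing.injective (U1 t) L
      simp only [map_sum, map_mul, map_pow, map_zero, hξ, Algebra.smul_def]
      have h5 : ∀ i, algebraMap (U1 t) L (algebraMap R (U1 t) (α i)) =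
          algebraMap K L (algebraMap R K d) * algebraMap K L (a i) := by
        intro i
        rw [← IsScalarTower.algebraMap_apply R (U1 t) L, IsScalarTower.algebraMap_apply R K L, hα,
          Algebra.smul_def, map_mul]
      have h6 : ∑ i, algebraMap (U1 t) L (algebraMap R (U1 t) (α i)) *
          (algebraMap (U1 t) L (e : U1 t) * x i) ^ p =
          algebraMap K L (algebraMap R K d) * algebraMap (U1 t) L (e : U1 t) ^ p *
            ∑ i, algebraMap K L (a i) * x i ^ p := by
        rw [Finset.mul_sum]
        refine Finset.sum_congr rfl fun i _ => ?_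
        rw [h5, mul_pow]; ring
      rw [h6, hx, mul_zero])
    intro i
    have h7 := hξ i
    rw [h4 i, map_zero, Algebra.smul_def] at h7
    exact (mul_eq_zero.mp h7.symm).resolve_left he0
  · have := CharP.charP_to_charZero K
    exact Groth.Agent.CalgC.SepField.isGeometricallyReduced_of_perfectField _ _

end

end K696.Los
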