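import Mathlib.RingTheory.DiscreteValuationRing.Basic
import Mathlib.Order.Filter.Ultrafilter.Defs
import Mathlib.Order.Filter.Ultrafilter.Basic
import Mathlib.Order.Filter.Cofinite
import Mathlib.RingTheory.Ideal.Quotient.Operations

/-!
# The separated ultrapower of a discrete valuation ring

`U1 t` = `(∏_ℕ R) / {x : for every m, t^m ∣ x_j for almost all j}`: a discrete valuation ring, unramified over `R`.
-/

set_option autoImplicit false
universe u

open Filter

namespace K696.Ultra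

variable {R : Type u} [CommRing R]

/-- The ideal of sequences that are almost everywhere infinitely divisible by `t`. -/
def J (t : R) : Ideal (ℕ → R) where
  carrier := {x | ∀ m : ℕ, ∀ᶠ j in (hyperfilter ℕ : Filter ℕ), t ^ m ∣ x j}
  add_mem' {a b} ha hb m := by
    filter_upwards [ha m, hb m] with j h1 h2
    exact dvd_add h1 h2
  zero_mem' m := by simp
  smul_mem' c x hx m := by
    filter_upwards [hx m] with j h
    exact Dvd.dvd.mul_left h (c j)

/-- The separated ultrapower. -/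
def U1 (t : R) : Type u := (ℕ → R) ⧸ J t

noncomputable instance (t : R) : CommRing (U1 t) := inferInstanceAs (CommRing ((ℕ → R) ⧸ J t))

noncomputable instance (t : R) : Algebra R (U1 t) := inferInstanceAs (Algebra R ((ℕ → R) ⧸ J t))

/-- The class of a sequence. -/
noncomputable def mk (t : R) : (ℕ → R) →ₐ[R] U1 t := Ideal.Quotient.mkₐ R (J t)

theorem mk_surjective (t : R) : Function.Surjective (mk t) := Ideal.Quotient.mkₐ_surjective R (J t)

theorem mk_eq_zero {t : R} {x : ℕ → R} :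
    mk t x = 0 ↔ ∀ m : ℕ, ∀ᶠ j in (hyperfilter ℕ : Filter ℕ), t ^ m ∣ x j :=
  Ideal.Quotient.eq_zero_iff_mem

theorem mk_eq_mk {t : R} {x y : ℕ → R} :
    mk t x = mk t y ↔ ∀ m : ℕ, ∀ᶠ j in (hyperfilter ℕ : Filter ℕ), t ^ m ∣ x j - y j := by
  rw [← sub_eq_zero, ← map_sub, mk_eq_zero]
  rfl

theorem algebraMap_eq (t : R) (a : R) : algebraMap R (U1 t) a = mk t (fun _ => a) :=
  ((mk t).commutes a).symm

/-- Łoś for divisibility by powers of `t`. -/
theorem pow_dvd_mk {t : R} {x : ℕ → R} {m : ℕ} :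
    algebraMap R (U1 t) t ^ m ∣ mk t x ↔ ∀ᶠ j in (hyperfilter ℕ : Filter ℕ), t ^ m ∣ x j := by
  classical
  constructor
  · rintro ⟨y, hy⟩
    obtain ⟨y, rfl⟩ := mk_surjective t y
    rw [algebraMap_eq, ← map_pow, ← map_mul, mk_eq_mk] at hy
    filter_upwards [hy m] with j hj
    have h1 : t ^ m ∣ ((fun _ => t : ℕ → R) ^ m * y) j := ⟨y j, rfl⟩
    have := dvd_add hj h1
    rwa [sub_add_cancel] at this
  · intro h
    let y : ℕ → R := fun j => if h : t ^ m ∣ x j then h.choose else 0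
    refine ⟨mk t y, ?_⟩
    rw [algebraMap_eq, ← map_pow, ← map_mul, mk_eq_mk]
    intro m'
    filter_upwards [h] with j hj
    have h1 : x j = ((fun _ => t : ℕ → R) ^ m * y) j := by
      show x j = t ^ m * y j
      simp only [y, dif_pos hj]
      exact hj.choose_spec
    rw [← h1, sub_self]
    exact dvd_zero _

theorem dvd_mk {t : R} {x : ℕ → R} :
    algebraMap R (U1 t) t ∣ mk t x ↔ ∀ᶠ j in (hyperfilter ℕ : Filter ℕ), t ∣ x j := by
  have := pow_dvd_mk (t := t) (x := x) (m := 1)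
  simpa only [pow_one] using this

/-- Separatedness. -/
theorem eq_zero_of_forall_dvd {t : R} {x : U1 t} (h : ∀ m : ℕ, algebraMap R (U1 t) t ^ m ∣ x) : x = 0 := by
  obtain ⟨x, rfl⟩ := mk_surjective t x
  rw [mk_eq_zero]
  exact fun m => pow_dvd_mk.mp (h m)

section DVR

variable [IsDomain R] [IsDiscreteValuationRing R]

omit [IsDiscreteValuationRing R] in
theorem not_pow_succ_dvd {t : R} (ht : Irreducible t) (m : ℕ) : ¬ t ^ (m + 1) ∣ t ^ m := fun h =>
  absurd ((pow_dvd_pow_iff ht.ne_zero ht.not_isUnit).mp h) (by omega)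

theorem mk_pow_ne_zero {t : R} (ht : Irreducible t) (m : ℕ) : algebraMap R (U1 t) t ^ m ≠ 0 := by
  intro h
  rw [algebraMap_eq, ← map_pow, mk_eq_zero] at h
  obtain ⟨j, hj⟩ := (h (m + 1)).exists
  exact not_pow_succ_dvd ht m hj

omit [IsDomain R] [IsDiscreteValuationRing R] in
theorem isUnit_mk {t : R} {x : ℕ → R} (h : ∀ᶠ j in (hyperfilter ℕ : Filter ℕ), IsUnit (x j)) :
    IsUnit (mk t x) := by
  classical
  refine IsUnit.of_mul_eq_one (mk t fun j => if h : IsUnit (x j) then ((h.unit⁻¹ : Rˣ) : R) else 0) ?_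
  rw [← map_mul, ← map_one (mk t), mk_eq_mk]
  intro m
  filter_upwards [h] with j hj
  simp only [Pi.mul_apply, dif_pos hj, IsUnit.mul_val_inv, Pi.one_apply, sub_self, dvd_zero]

/-- Every nonzero element is a unit times a power of `t`. -/
theorem exists_unit_mul_pow {t : R} (ht : Irreducible t) {x : U1 t} (hx : x ≠ 0) :
    ∃ (n : ℕ) (u : (U1 t)ˣ), x = u * algebraMap R (U1 t) t ^ n := by
  classical
  obtain ⟨x, rfl⟩ := mk_surjective t x
  rw [Ne, mk_eq_zero, not_forall] at hx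
  let P : ℕ → Prop := fun m => ¬ ∀ᶠ j in (hyperfilter ℕ : Filter ℕ), t ^ m ∣ x j
  have hP : ∃ m, P m := hx
  have h0 : ¬ P 0 := not_not.mpr (Filter.Eventually.of_forall fun j => by simp)
  obtain ⟨n, hn⟩ : ∃ n, Nat.find hP = n + 1 := by
    refine Nat.exists_eq_succ_of_ne_zero fun h => h0 ?_
    rw [← h]; exact Nat.find_spec hP
  have h1 : P (n + 1) := hn ▸ Nat.find_spec hP
  have h2 : ∀ᶠ j in (hyperfilter ℕ : Filter ℕ), t ^ n ∣ x j := by
    have := Nat.find_min hP (m := n) (by omega)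
    simpa only [P, not_not] using this
  obtain ⟨y, hy⟩ := pow_dvd_mk.mpr h2
  obtain ⟨y, rfl⟩ := mk_surjective t y
  have h3 : ∀ᶠ j in (hyperfilter ℕ : Filter ℕ), ¬ t ∣ y j := by
    rw [Ultrafilter.eventually_not]
    rw [← dvd_mk]
    rintro ⟨z, hz⟩
    apply h1
    rw [← pow_dvd_mk, hy, hz, ← mul_assoc, ← pow_succ]
    exact dvd_mul_right _ _
  refine ⟨n, (isUnit_mk (t := t) (x := y) ?_).unit, ?_⟩
  · filter_upwards [h3] with j hj
    by_contra hu
    exact hj ((Ideal.mem_span_singleton).mp (ht.maximalIdeal_eq ▸ (IsLocalRing.mem_maximalIdeal _).mpr hu))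
  · rw [IsUnit.unit_spec, hy, mul_comm]

theorem t_mul_ne_one {t : R} (ht : Irreducible t) (x : U1 t) : algebraMap R (U1 t) t * x ≠ 1 := by
  obtain ⟨x, rfl⟩ := mk_surjective t x
  intro h
  rw [algebraMap_eq, ← map_mul, ← map_one (mk t), mk_eq_mk] at h
  obtain ⟨j, hj⟩ := (h 1).exists
  rw [pow_one] at hj
  have h1 : t ∣ t * x j := dvd_mul_right _ _
  have h2 := (dvd_sub_right h1).mp hj
  exact ht.not_isUnit (isUnit_of_dvd_one h2)

theorem isDomain {t : R} (ht : Irreducible t) : IsDomain (U1 t) := by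
  have hnt : Nontrivial (U1 t) := ⟨⟨_, _, mk_pow_ne_zero ht 0⟩⟩
  have : NoZeroDivisors (U1 t) := by
    refine ⟨fun {a b} hab => ?_⟩
    by_contra! hne
    obtain ⟨n, u, hu⟩ := exists_unit_mul_pow ht hne.1
    obtain ⟨m, v, hv⟩ := exists_unit_mul_pow ht hne.2
    rw [hu, hv] at hab
    have h1 : ((u * v : (U1 t)ˣ) : U1 t) * algebraMap R (U1 t) t ^ (n + m) = 0 := by
      rw [← hab, Units.val_mul, pow_add]; ring
    rw [Units.mul_right_eq_zero] at h1
    exact mk_pow_ne_zero ht _ h1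
  exact NoZeroDivisors.to_isDomain _

theorem irreducible_t {t : R} (ht : Irreducible t) : Irreducible (algebraMap R (U1 t) t) := by
  have := isDomain ht
  have hnu : ¬ IsUnit (algebraMap R (U1 t) t) := fun h => by
    obtain ⟨v, hv⟩ := h.exists_right_inv
    exact t_mul_ne_one ht v hv
  refine ⟨hnu, fun a b hab => ?_⟩
  have ht0 : algebraMap R (U1 t) t ≠ 0 := by simpa using mk_pow_ne_zero ht 1
  have ha : a ≠ 0 := fun h => ht0 (by rw [hab, h, zero_mul])
  have hb : b ≠ 0 := fun h => ht0 (by rw [hab, h, mul_zero])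
  obtain ⟨n, u, hu⟩ := exists_unit_mul_pow ht ha
  obtain ⟨m, v, hv⟩ := exists_unit_mul_pow ht hb
  rcases Nat.eq_zero_or_pos n with rfl | hn
  · left; rw [hu, pow_zero, mul_one]; exact u.isUnit
  rcases Nat.eq_zero_or_pos m with rfl | hm
  · right; rw [hv, pow_zero, mul_one]; exact v.isUnit
  exfalso
  apply hnu
  obtain ⟨n, rfl⟩ := Nat.exists_eq_succ_of_ne_zero hn.ne'
  obtain ⟨m, rfl⟩ := Nat.exists_eq_succ_of_ne_zero hm.ne'
  have h1 : algebraMap R (U1 t) t * 1 = algebraMap R (U1 t) t *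
      (algebraMap R (U1 t) t * (u * v * algebraMap R (U1 t) t ^ (n + m))) := by
    conv_lhs => rw [mul_one, hab, hu, hv]
    rw [pow_succ, pow_succ, pow_add]; ring
  exact IsUnit.of_mul_eq_one _ (mul_left_cancel₀ ht0 h1).symm

theorem isDVR {t : R} (ht : Irreducible t) : ∃ _ : IsDomain (U1 t), IsDiscreteValuationRing (U1 t) := by
  have := isDomain ht
  refine ⟨this, IsDiscreteValuationRing.ofHasUnitMulPowIrreducibleFactorization
    ⟨algebraMap R (U1 t) t, irreducible_t ht, fun {x} hx => ?_⟩⟩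
  obtain ⟨n, u, hu⟩ := exists_unit_mul_pow ht hx
  exact ⟨n, u, by rw [hu, mul_comm]⟩

theorem algebraMap_injective {t : R} (ht : Irreducible t) : Function.Injective (algebraMap R (U1 t)) := by
  rw [injective_iff_map_eq_zero]
  intro a ha
  by_contra h0
  obtain ⟨n, u, hu⟩ := IsDiscreteValuationRing.eq_unit_mul_pow_irreducible h0 ht
  rw [algebraMap_eq, mk_eq_zero] at ha
  obtain ⟨j, hj⟩ := (ha (n + 1)).exists
  simp only [hu, Units.dvd_mul_left] at hj
  exact not_pow_succ_dvd ht n hj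

end DVR

end K696.Ultra
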